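import Groth.Agent.CycA.MovVec
import Groth.Agent.VarietyB.Segre
import Groth.Agent.VarietyB.ProjSpaceProper
import Mathlib.Algebra.MvPolynomial.Monad
import Mathlib.AlgebraicGeometry.Morphisms.Finite
import Mathlib.AlgebraicGeometry.Morphisms.Proper

/-!
# Morphisms to projective space given by forms in coordinate data

For coordinate data `D` on `X` over `R` (ratios of homogeneous coordinates indexed by `I`) and forms
`l j ∈ R[T_i : i ∈ I]` of the same degree without common zero on `X`: the morphism
`formMap : X ⟶ P^J_R` with homogeneous coordinates `l j`, preimages of basic opens, and finiteness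
when `D` defines a closed immersion and `X` is proper over `R`.
-/

set_option autoImplicit false

universe u

open AlgebraicGeometry CategoryTheory HomogeneousLocalization

namespace K101.FormMap

open Groth.Agent.VarietyB.ProjHom Groth.Agent.VarietyB.ProjGlue Groth.Agent.VarietyB.ProjStd
open Groth.Agent.VarietyB.Segre Groth.Agent.CycA.MovVec

attribute [local instance] MvPolynomial.gradedAlgebra

variable {X : Scheme.{u}} {I J : Type} {R : Type u} [CommRing R]

section Preim

theorem coord_inf_preimage (D : CoordData X I) (p : X ⟶ Spec (CommRingCat.of R)) (i : I) {m : ℕ}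
    (hm : 0 < m) {a : MvPolynomial I R} (ha : a.IsHomogeneous m) :
    D.U i ⊓ D.toProjSpace p ⁻¹ᵁ Proj.basicOpen (MvPolynomial.homogeneousSubmodule I R) a =
      X.basicOpen (D.hom p i a) := by
  have h : D.localHom p i ⁻¹ᵁ Proj.basicOpen (MvPolynomial.homogeneousSubmodule I R) a =
      (D.U i).toScheme.basicOpen ((D.U i).topIso.inv (D.hom p i a)) := by
    rw [CoordData.localHom, toProj_preimage_basicOpen _ _ _ _ _
      (ha : a ∈ MvPolynomial.homogeneousSubmodule I R m) hm]
    rfl
  rw [← CoordData.ι_toProjSpace, Scheme.Hom.comp_preimage] at h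
  have h2 := congrArg (fun V => (D.U i).ι ''ᵁ V) h
  simp only [Scheme.Opens.ι_image_basicOpen_topIso_inv, Scheme.Hom.image_preimage_eq_opensRange_inf,
    Scheme.Opens.opensRange_ι] at h2
  exact h2

theorem vec_inf_preimage {A : Type} (D : VecData X J A) (p : X ⟶ Spec (CommRingCat.of R)) (α : A)
    {m : ℕ} (hm : 0 < m) {a : MvPolynomial J R} (ha : a.IsHomogeneous m) :
    D.V α ⊓ D.toProjSpace p ⁻¹ᵁ Proj.basicOpen (MvPolynomial.homogeneousSubmodule J R) a =
      X.basicOpen (D.hom p α a) := by
  have h : D.localHom p α ⁻¹ᵁ Proj.basicOpen (MvPolynomial.homogeneousSubmodule J R) a =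
      (D.V α).toScheme.basicOpen ((D.V α).topIso.inv (D.hom p α a)) := by
    rw [VecData.localHom, toProj_preimage_basicOpen _ _ _ _ _
      (ha : a ∈ MvPolynomial.homogeneousSubmodule J R m) hm]
    rfl
  rw [← VecData.ι_toProjSpace, Scheme.Hom.comp_preimage] at h
  have h2 := congrArg (fun V => (D.V α).ι ''ᵁ V) h
  simp only [Scheme.Opens.ι_image_basicOpen_topIso_inv, Scheme.Hom.image_preimage_eq_opensRange_inf,
    Scheme.Opens.opensRange_ι] at h2
  exact h2

end Preim

section Form

variable (D : CoordData X I) (p : X ⟶ Spec (CommRingCat.of R))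

theorem map_hom_change {a b : I} {m : ℕ} {φ : MvPolynomial I R} (hφ : φ.IsHomogeneous m)
    (W : X.Opens) (ha : W ≤ D.U a) (hb : W ≤ D.U b) :
    X.presheaf.map (homOfLE ha).op (D.hom p a φ) =
      X.presheaf.map (homOfLE ha).op (D.f a b) ^ m *
        X.presheaf.map (homOfLE hb).op (D.hom p b φ) := by
  have h1 := congr($(D.map_hom p a ha) φ)
  have h2 := congr($(D.map_hom p b hb) φ)
  refine h1.trans ?_
  refine Eq.trans ?_ (congrArg (fun z => X.presheaf.map (homOfLE ha).op (D.f a b) ^ m * z) h2.symm)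
  rw [← eval₂Hom_smul_of_isHomogeneous _ _ _ hφ]
  congr 2
  funext k
  have h := congrArg (X.presheaf.map (homOfLE (le_inf ha hb)).op) (D.f_mul a b k)
  rw [map_mul, map_map_apply, map_map_apply, map_map_apply] at h
  exact h

theorem isUnit_map_f (a b : I) (W : X.Opens) (ha : W ≤ D.U a) (hb : W ≤ D.U b) :
    IsUnit (X.presheaf.map (homOfLE ha).op (D.f a b)) := by
  have h := (D.f_isUnit a b).map (X.presheaf.map (homOfLE (le_inf ha hb)).op).hom
  convert h using 1
  exact (map_map_apply _ _ _).symm

theorem mem_basicOpen_hom_iff {a b : I} {m : ℕ} {φ : MvPolynomial I R} (hφ : φ.IsHomogeneous m)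
    {y : X} (ha : y ∈ D.U a) (hb : y ∈ D.U b) :
    y ∈ X.basicOpen (D.hom p a φ) ↔ y ∈ X.basicOpen (D.hom p b φ) := by
  have key : ∀ a b : I, y ∈ D.U a → y ∈ D.U b → y ∈ X.basicOpen (D.hom p a φ) →
      y ∈ X.basicOpen (D.hom p b φ) := by
    intro a b ha hb hy
    have h1 : y ∈ X.basicOpen (X.presheaf.map
        (homOfLE (inf_le_left : D.U a ⊓ D.U b ≤ D.U a)).op (D.hom p a φ)) := by
      rw [Scheme.basicOpen_res]
      exact ⟨⟨ha, hb⟩, hy⟩
    rw [map_hom_change D p hφ _ inf_le_left inf_le_right, Scheme.basicOpen_mul] at h1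
    have h2 := h1.2
    rw [Scheme.basicOpen_res] at h2
    exact h2.2
  exact ⟨key a b ha hb, key b a hb ha⟩

variable (l : J → MvPolynomial I R) {e : ℕ} (hl : ∀ j, (l j).IsHomogeneous e)
  (h : ⨆ α : J × I, X.basicOpen (D.hom p α.2 (l α.1)) = ⊤)

/-- The local coordinate vectors given by forms of the same degree. -/
noncomputable def vecData : VecData X J (J × I) where
  V α := X.basicOpen (D.hom p α.2 (l α.1))
  iSup_V := h
  g α k := X.presheaf.map (homOfLE (X.basicOpen_le _)).op (D.hom p α.2 (l k))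
  t α := α.1
  isUnit α := RingedSpace.isUnit_res_basicOpen _ (D.hom p α.2 (l α.1))
  compat α β := by
    have ha : X.basicOpen (D.hom p α.2 (l α.1)) ⊓ X.basicOpen (D.hom p β.2 (l β.1)) ≤
      D.U α.2 := inf_le_left.trans (X.basicOpen_le _)
    have hb : X.basicOpen (D.hom p α.2 (l α.1)) ⊓ X.basicOpen (D.hom p β.2 (l β.1)) ≤
      D.U β.2 := inf_le_right.trans (X.basicOpen_le _)
    refine ⟨((isUnit_map_f D α.2 β.2 _ ha hb).pow e).unit, fun k => ?_⟩
    rw [map_map_apply, map_map_apply, IsUnit.unit_spec]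
    exact map_hom_change D p (hl k) _ ha hb

/-- The morphism to projective space given by forms without common zeros. -/
noncomputable def formMap : X ⟶ Proj (MvPolynomial.homogeneousSubmodule J R) :=
  (vecData D p l hl h).toProjSpace p

theorem formMap_toSpec :
    formMap D p l hl h ≫ Groth.Agent.VarietyB.ProjStd.toSpec J R = p :=
  VecData.toProjSpace_toSpec _ _

theorem eval₂Hom_forms {a : I} {V : X.Opens} (hV : V ≤ D.U a) (b : MvPolynomial J R) :
    MvPolynomial.eval₂Hom (CoordData.baseHom p V)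
        (fun k => X.presheaf.map (homOfLE hV).op (D.hom p a (l k))) b =
      X.presheaf.map (homOfLE hV).op (D.hom p a (MvPolynomial.bind₁ l b)) := by
  have h1 : MvPolynomial.eval₂Hom (CoordData.baseHom p V)
        (fun k => X.presheaf.map (homOfLE hV).op (D.hom p a (l k))) =
      ((X.presheaf.map (homOfLE hV).op).hom.comp (D.hom p a)).comp
        ((MvPolynomial.bind₁ l : MvPolynomial J R →ₐ[R] MvPolynomial I R) :
          MvPolynomial J R →+* MvPolynomial I R) := by
    apply MvPolynomial.ringHom_ext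
    · intro r
      have h4 : D.hom p a (MvPolynomial.C r) = CoordData.baseHom p (D.U a) r := by
        simp only [CoordData.hom, MvPolynomial.eval₂Hom_C]
      rw [RingHom.comp_apply, RingHom.comp_apply, RingHom.coe_coe, MvPolynomial.bind₁_C_right, h4,
        MvPolynomial.eval₂Hom_C]
      exact congr($(CoordData.baseHom_map p hV) r).symm
    · intro k
      rw [RingHom.comp_apply, RingHom.comp_apply, RingHom.coe_coe, MvPolynomial.bind₁_X_right,
        MvPolynomial.eval₂Hom_X']
  exact congr($h1 b)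

include hl in
theorem isHomogeneous_bind₁ {m : ℕ} {b : MvPolynomial J R} (hb : b.IsHomogeneous m) :
    (MvPolynomial.bind₁ l b).IsHomogeneous (e * m) :=
  hb.aeval l hl

/-- The preimage of a basic open under the morphism given by forms. -/
theorem formMap_mem_iff {c : I} {z : X} (hz : z ∈ D.U c) {m : ℕ} (hm : 0 < m)
    {b : MvPolynomial J R} (hb : b.IsHomogeneous m) :
    formMap D p l hl h z ∈ Proj.basicOpen (MvPolynomial.homogeneousSubmodule J R) b ↔
      z ∈ X.basicOpen (D.hom p c (MvPolynomial.bind₁ l b)) := by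
  have hz' : z ∈ ⨆ α : J × I, X.basicOpen (D.hom p α.2 (l α.1)) := by rw [h]; trivial
  rw [TopologicalSpace.Opens.mem_iSup] at hz'
  obtain ⟨α, hα⟩ := hz'
  have h1 := vec_inf_preimage (vecData D p l hl h) p α hm hb
  have h2 : z ∈ formMap D p l hl h ⁻¹ᵁ Proj.basicOpen (MvPolynomial.homogeneousSubmodule J R) b ↔
      z ∈ X.basicOpen ((vecData D p l hl h).hom p α b) := by
    rw [← h1]
    exact ⟨fun hy => ⟨hα, hy⟩, fun hy => hy.2⟩
  have h5 : X.basicOpen ((vecData D p l hl h).hom p α b) =
      X.basicOpen (X.presheaf.map (homOfLE (X.basicOpen_le (D.hom p α.2 (l α.1)))).op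
        (D.hom p α.2 (MvPolynomial.bind₁ l b))) :=
    congrArg (fun z => X.basicOpen z) (eval₂Hom_forms D p l (X.basicOpen_le _) b)
  rw [h5, Scheme.basicOpen_res] at h2
  refine h2.trans ?_
  rw [mem_basicOpen_hom_iff D p (isHomogeneous_bind₁ l hl hb) hz (X.basicOpen_le _ hα)]
  exact ⟨fun hy => hy.2, fun hy => ⟨hα, hy⟩⟩

theorem formMap_preimage_X (he : 0 < e) (k : J) :
    formMap D p l hl h ⁻¹ᵁ Proj.basicOpen (MvPolynomial.homogeneousSubmodule J R)
      (MvPolynomial.X k) =
      D.toProjSpace p ⁻¹ᵁ Proj.basicOpen (MvPolynomial.homogeneousSubmodule I R) (l k) := by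
  ext z
  have hz : z ∈ ⨆ i, D.U i := by rw [D.iSup_U]; trivial
  obtain ⟨c, hc⟩ := TopologicalSpace.Opens.mem_iSup.mp hz
  have h1 := formMap_mem_iff D p l hl h hc one_pos (MvPolynomial.isHomogeneous_X R k)
  rw [MvPolynomial.bind₁_X_right, ← coord_inf_preimage D p c he (hl k)] at h1
  exact h1.trans ⟨fun hy => hy.2, fun hy => ⟨hc, hy⟩⟩

theorem isAffineHom_formMap (hD : IsClosedData D p) (he : 0 < e) :
    IsAffineHom (formMap D p l hl h) := by
  have hcl := hD.isClosedImmersion
  refine isAffineHom_of_forall_exists_isAffineOpen _ fun y => ?_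
  have hy : y ∈ (⨆ i : J, Proj.basicOpen (MvPolynomial.homogeneousSubmodule J R)
      (MvPolynomial.X i) : (Proj (MvPolynomial.homogeneousSubmodule J R)).Opens) := by
    rw [CoordData.iSup_basicOpen_X J R]; trivial
  obtain ⟨i, hi⟩ := TopologicalSpace.Opens.mem_iSup.mp hy
  refine ⟨Proj.basicOpen (MvPolynomial.homogeneousSubmodule J R) (MvPolynomial.X i), hi, ?_, ?_⟩
  · exact Proj.isAffineOpen_basicOpen (MvPolynomial.homogeneousSubmodule J R) (MvPolynomial.X i)
      ((MvPolynomial.mem_homogeneousSubmodule _ _).mpr (MvPolynomial.isHomogeneous_X R i)) one_pos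
  · rw [formMap_preimage_X D p l hl h he]
    have hW : IsAffineOpen (X := Proj (MvPolynomial.homogeneousSubmodule I R))
        (Proj.basicOpen (MvPolynomial.homogeneousSubmodule I R) (l i)) :=
      Proj.isAffineOpen_basicOpen (MvPolynomial.homogeneousSubmodule I R) (l i)
        ((MvPolynomial.mem_homogeneousSubmodule _ _).mpr (hl i)) he
    exact hW.preimage (D.toProjSpace p)

theorem isFinite_formMap [IsProper p] [IsSeparated (Groth.Agent.VarietyB.ProjStd.toSpec J R)]
    (hD : IsClosedData D p) (he : 0 < e) : IsFinite (formMap D p l hl h) := by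
  have h1 := isAffineHom_formMap D p l hl h hD he
  have h3 : IsProper (formMap D p l hl h ≫ Groth.Agent.VarietyB.ProjStd.toSpec J R) := by
    rw [formMap_toSpec]; infer_instance
  have h4 : IsProper (formMap D p l hl h) :=
    IsProper.of_comp _ (Groth.Agent.VarietyB.ProjStd.toSpec J R)
  exact IsFinite.iff_isProper_and_isAffineHom.mpr ⟨h4, h1⟩

end Form

end K101.FormMap
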