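import Groth.Agent.Constr.K101.FormMap
import Mathlib.FieldTheory.IsAlgClosed.AlgebraicClosure

/-!
# Field-valued points of projective space and of products

`kpt`: the point `Spec K ⟶ P^I_R` with coordinates `x : I → K`, `x i = 1`; pullback of coordinate data;
points of `P^J_R` from homogeneous coordinates in algebraically closed fields.
-/

set_option autoImplicit false

universe u

open AlgebraicGeometry CategoryTheory HomogeneousLocalization

namespace K101.KPoint

open Groth.Agent.VarietyB.ProjHom Groth.Agent.VarietyB.ProjGlue Groth.Agent.VarietyB.ProjStd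
open Groth.Agent.VarietyB.Segre Groth.Agent.CycA.MovVec K101.FormMap

attribute [local instance] MvPolynomial.gradedAlgebra

variable {I J : Type} {R : Type u} [CommRing R] {K : Type u} [Field K] (r : R →+* K)

/-- constants in the global sections of `Spec K` -/
noncomputable def cK (K : Type u) [Field K] : K →+* Γ(Spec (CommRingCat.of K), ⊤) :=
  (Scheme.ΓSpecIso (CommRingCat.of K)).inv.hom

theorem mem_basicOpen_cK_iff (t : K) (z : Spec (CommRingCat.of K)) :
    z ∈ (Spec (CommRingCat.of K)).basicOpen (cK K t) ↔ t ≠ 0 := by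
  constructor
  · rintro hz rfl
    rw [map_zero, Scheme.basicOpen_zero] at hz
    exact hz
  · intro ht
    rw [Scheme.basicOpen_of_isUnit _ ((isUnit_iff_ne_zero.mpr ht).map (cK K))]
    trivial

theorem mem_basicOpen_map_cK_iff (t : K) (z : Spec (CommRingCat.of K))
    {V : (Spec (CommRingCat.of K)).Opens} (hz : z ∈ V) :
    z ∈ (Spec (CommRingCat.of K)).basicOpen
      ((Spec (CommRingCat.of K)).presheaf.map (homOfLE (le_top : V ≤ ⊤)).op (cK K t)) ↔ t ≠ 0 := by
  rw [Scheme.basicOpen_res, ← mem_basicOpen_cK_iff t z]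
  exact ⟨fun h => h.2, fun h => ⟨hz, h⟩⟩

theorem baseHom_specMap (V : (Spec (CommRingCat.of K)).Opens) :
    CoordData.baseHom (Spec.map (CommRingCat.ofHom r)) V =
      ((Spec (CommRingCat.of K)).presheaf.map (homOfLE (le_top : V ≤ ⊤)).op).hom.comp
        ((cK K).comp r) := by
  unfold CoordData.baseHom cK
  congr 1
  have h := Scheme.ΓSpecIso_inv_naturality (CommRingCat.ofHom r)
  have h2 := congrArg CommRingCat.Hom.hom h
  exact h2.symm

/-- The point of `P^I_R` with coordinates `x`, where `x i = 1`. -/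
noncomputable def kpt (x : I → K) (i : I) (hi : x i = 1) :
    Spec (CommRingCat.of K) ⟶ Proj (MvPolynomial.homogeneousSubmodule I R) :=
  toProj (MvPolynomial.homogeneousSubmodule I R) ((cK K).comp (MvPolynomial.eval₂Hom r x))
    (X_mem R i) Nat.one_pos (by
      rw [RingHom.comp_apply, MvPolynomial.eval₂Hom_X', hi, map_one]; exact isUnit_one)

theorem kpt_toSpec (x : I → K) (i : I) (hi : x i = 1) :
    kpt r x i hi ≫ Groth.Agent.VarietyB.ProjStd.toSpec I R = Spec.map (CommRingCat.ofHom r) := by
  rw [kpt, Groth.Agent.VarietyB.ProjStd.toSpec, ← Category.assoc, toProj_toSpecZero, Category.assoc,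
    ← Spec.map_comp, ← CommRingCat.ofHom_comp]
  rw [← eq_toSpecΓ_comp (Spec.map (CommRingCat.ofHom r))]
  congr 3
  ext t
  have h1 : algebraMap (MvPolynomial.homogeneousSubmodule I R 0) (MvPolynomial I R)
    (algebraMap R (MvPolynomial.homogeneousSubmodule I R 0) t) = MvPolynomial.C t := rfl
  rw [RingHom.comp_apply, RingHom.comp_apply, h1, RingHom.comp_apply, MvPolynomial.eval₂Hom_C]
  have h := Scheme.ΓSpecIso_inv_naturality (CommRingCat.ofHom r)
  exact congr(($h).hom t)

theorem deh_X_mul (i k : I) (x : I → K) (hi : x i = 1)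
    (ht : IsUnit (((cK K).comp (MvPolynomial.eval₂Hom r x)) (MvPolynomial.X i))) :
    awayLift (MvPolynomial.homogeneousSubmodule I R) ((cK K).comp (MvPolynomial.eval₂Hom r x))
      (MvPolynomial.X i) ht (deh I R i (MvPolynomial.X k)) = cK K (x k) := by
  rw [deh_of_isHomogeneous I R i (n := 1) _ (by simpa using MvPolynomial.isHomogeneous_X R k)]
  have h1 := awayLift_mk (MvPolynomial.homogeneousSubmodule I R)
    ((cK K).comp (MvPolynomial.eval₂Hom r x)) ht (X_mem R i) 1 (MvPolynomial.X k)
    (by simpa using MvPolynomial.isHomogeneous_X R k)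
  rw [pow_one, RingHom.comp_apply, RingHom.comp_apply, MvPolynomial.eval₂Hom_X',
    MvPolynomial.eval₂Hom_X', hi, map_one, mul_one] at h1
  exact h1

theorem kpt_app_ratio (x : I → K) (i : I) (hi : x i = 1) (k : I) :
    (kpt r x i hi).app (Proj.basicOpen (MvPolynomial.homogeneousSubmodule I R) (MvPolynomial.X i))
      (ratio I R i k) = (Spec (CommRingCat.of K)).presheaf.map (homOfLE le_top).op
        (cK K (x k)) := by
  have h1 := toProj_app (MvPolynomial.homogeneousSubmodule I R)
    ((cK K).comp (MvPolynomial.eval₂Hom r x)) (X_mem R i) Nat.one_pos (by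
      rw [RingHom.comp_apply, MvPolynomial.eval₂Hom_X', hi, map_one]; exact isUnit_one)
    (deh I R i (MvPolynomial.X k))
  rw [deh_X_mul r i k x hi] at h1
  exact h1

theorem kpt_preimage (x : I → K) (i : I) (hi : x i = 1) :
    kpt r x i hi ⁻¹ᵁ Proj.basicOpen (MvPolynomial.homogeneousSubmodule I R) (MvPolynomial.X i) =
      ⊤ := by
  rw [kpt, toProj_preimage_basicOpen _ _ _ _ _ (X_mem R i) Nat.one_pos, RingHom.comp_apply,
    MvPolynomial.eval₂Hom_X', hi, map_one, Scheme.basicOpen_one]

end K101.KPoint
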