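import Groth.Agent.Constr.K101.ProdSurj
import Mathlib.Algebra.Polynomial.Roots
import Mathlib.FieldTheory.IsAlgClosed.Basic

/-!
# Multiplication of binary forms: `P^1 × P^n ⟶ P^{n+1}`

The coefficients of the product of a linear form and a form of degree `n` in two variables.
-/

set_option autoImplicit false

universe u

open AlgebraicGeometry CategoryTheory Polynomial

namespace K101.MulForms

/-- The `k`-th coefficient of the product, as a linear form in the Segre coordinates. -/
noncomputable def cf (n : ℕ) (R : Type u) [CommRing R] (k : Fin (n + 1 + 1)) :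
    MvPolynomial (Fin (1 + 1) × Fin (n + 1)) R :=
  ∑ c : Fin (1 + 1) × Fin (n + 1), if (c.1 : ℕ) + c.2 = k then MvPolynomial.X c else 0

theorem cf_isHomogeneous (n : ℕ) (R : Type u) [CommRing R] (k : Fin (n + 1 + 1)) :
    (cf n R k).IsHomogeneous 1 := by
  refine MvPolynomial.IsHomogeneous.sum _ _ _ fun c _ => ?_
  split_ifs
  · exact MvPolynomial.isHomogeneous_X R c
  · exact MvPolynomial.isHomogeneous_zero _ _ _

/-- The polynomial with given coefficients. -/
noncomputable def pl {K : Type u} [CommRing K] {m : ℕ} (v : Fin m → K) : K[X] :=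
  ∑ a : Fin m, C (v a) * X ^ (a : ℕ)

theorem pl_coeff {K : Type u} [CommRing K] {m : ℕ} (v : Fin m → K) (k : Fin m) :
    (pl v).coeff k = v k := by
  rw [pl, finsetSum_coeff, Finset.sum_eq_single k]
  · rw [coeff_C_mul_X_pow, if_pos rfl]
  · intro b _ hb
    rw [coeff_C_mul_X_pow, if_neg]
    intro h
    exact hb (Fin.ext h.symm)
  · intro h
    exact absurd (Finset.mem_univ _) h

theorem pl_coeff_of_le {K : Type u} [CommRing K] {m : ℕ} (v : Fin m → K) {k : ℕ} (hk : m ≤ k) :
    (pl v).coeff k = 0 := by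
  rw [pl, finsetSum_coeff]
  refine Finset.sum_eq_zero fun b _ => ?_
  rw [coeff_C_mul_X_pow, if_neg]
  have := b.2
  omega

theorem pl_ne_zero {K : Type u} [CommRing K] {m : ℕ} {v : Fin m → K} {k : Fin m} (hk : v k ≠ 0) :
    pl v ≠ 0 := by
  intro h
  apply hk
  rw [← pl_coeff v k, h, coeff_zero]

theorem eq_pl {K : Type u} [CommRing K] {m : ℕ} (P : K[X]) (hP : ∀ k, m ≤ k → P.coeff k = 0) :
    P = pl (fun a : Fin m => P.coeff a) := by
  ext k
  by_cases hk : k < m
  · exact (pl_coeff (fun a : Fin m => P.coeff a) ⟨k, hk⟩).symm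
  · rw [hP k (not_lt.mp hk), pl_coeff_of_le _ (not_lt.mp hk)]

theorem pl_mul_coeff {K : Type u} [CommRing K] (n : ℕ) (x : Fin (1 + 1) → K)
    (w : Fin (n + 1) → K) (k : ℕ) :
    (pl x * pl w).coeff k =
      ∑ c : Fin (1 + 1) × Fin (n + 1), if (c.1 : ℕ) + c.2 = k then x c.1 * w c.2 else 0 := by
  rw [pl, pl, Finset.sum_mul_sum, ← Finset.sum_product', finsetSum_coeff]
  refine Finset.sum_congr rfl fun c _ => ?_
  have h1 : C (x c.1) * X ^ (c.1 : ℕ) * (C (w c.2) * X ^ (c.2 : ℕ)) =
      C (x c.1 * w c.2) * X ^ ((c.1 : ℕ) + c.2) := by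
    rw [C_mul, pow_add]; ring
  rw [h1, coeff_C_mul_X_pow]
  simp only [eq_comm]

theorem eval_cf {K : Type u} [CommRing K] (n : ℕ) {R : Type u} [CommRing R] (r : R →+* K)
    (x : Fin (1 + 1) → K) (w : Fin (n + 1) → K) (k : Fin (n + 1 + 1)) :
    MvPolynomial.eval₂Hom r (fun c : Fin (1 + 1) × Fin (n + 1) => x c.1 * w c.2) (cf n R k) =
      (pl x * pl w).coeff k := by
  rw [pl_mul_coeff, cf, map_sum]
  refine Finset.sum_congr rfl fun c _ => ?_
  split_ifs
  · rw [MvPolynomial.eval₂Hom_X']
  · rw [map_zero]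

/-- The product of nonzero forms is nonzero. -/
theorem exists_ne_zero {K : Type u} [Field K] (n : ℕ) {R : Type u} [CommRing R] (r : R →+* K)
    (x : Fin (1 + 1) → K) (w : Fin (n + 1) → K) (i : Fin (1 + 1)) (j : Fin (n + 1))
    (hi : x i ≠ 0) (hj : w j ≠ 0) :
    ∃ k, MvPolynomial.eval₂Hom r (fun c : Fin (1 + 1) × Fin (n + 1) => x c.1 * w c.2) (cf n R k) ≠ 0 := by
  by_contra hcon
  push Not at hcon
  have h0 : pl x * pl w = 0 := by
    ext k
    rw [coeff_zero]
    by_cases hk : k < n + 1 + 1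
    · have := hcon ⟨k, hk⟩
      rwa [eval_cf] at this
    · rw [pl_mul_coeff]
      refine Finset.sum_eq_zero fun c _ => ?_
      rw [if_neg]
      have h1 := c.1.2
      have h2 := c.2.2
      omega
  rcases mul_eq_zero.mp h0 with h | h
  · exact pl_ne_zero hi h
  · exact pl_ne_zero hj h

/-- Over an algebraically closed field every nonzero form in two variables has a linear factor. -/
theorem exists_factor {K : Type u} [Field K] [IsAlgClosed K] (n : ℕ) {R : Type u} [CommRing R]
    (r : R →+* K) (v : Fin (n + 1 + 1) → K) :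
    ∃ (x : Fin (1 + 1) → K) (w : Fin (n + 1) → K), ∀ k,
      v k = MvPolynomial.eval₂Hom r (fun c : Fin (1 + 1) × Fin (n + 1) => x c.1 * w c.2)
        (cf n R k) := by
  suffices h : ∃ (x : Fin (1 + 1) → K) (w : Fin (n + 1) → K), pl v = pl x * pl w by
    obtain ⟨x, w, h⟩ := h
    refine ⟨x, w, fun k => ?_⟩
    rw [eval_cf, ← h, pl_coeff]
  by_cases hv : v (Fin.last _) = 0
  · refine ⟨![1, 0], fun b => (pl v).coeff b, ?_⟩
    have h1 : pl (![1, 0] : Fin (1 + 1) → K) = 1 := by
      simp [pl, Fin.sum_univ_two]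
    rw [h1, one_mul]
    refine eq_pl _ fun k hk => ?_
    rcases Nat.lt_or_ge k (n + 1 + 1) with h | h
    · have h2 : k = n + 1 := by omega
      subst h2
      have h3 := pl_coeff v (Fin.last _)
      rw [hv] at h3
      exact h3
    · exact pl_coeff_of_le v h
  · have hdeg : (pl v).natDegree = n + 1 := by
      apply le_antisymm
      · rw [natDegree_le_iff_coeff_eq_zero]
        intro k hk
        exact pl_coeff_of_le v hk
      · apply le_natDegree_of_ne_zero
        have h3 := pl_coeff v (Fin.last _)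
        rw [Fin.val_last] at h3
        rw [h3]; exact hv
    obtain ⟨t, ht⟩ := IsAlgClosed.exists_root (pl v) (by
      intro h
      have := natDegree_eq_zero_iff_degree_le_zero.mpr h.le
      omega)
    obtain ⟨Q, hQ⟩ := dvd_iff_isRoot.mpr ht
    have hne : pl v ≠ 0 := pl_ne_zero hv
    have hQ0 : Q ≠ 0 := by
      rintro rfl
      rw [mul_zero] at hQ
      exact hne hQ
    have hQdeg : Q.natDegree = n := by
      have h1 := natDegree_mul (X_sub_C_ne_zero t) hQ0
      rw [← hQ, hdeg, natDegree_X_sub_C] at h1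
      omega
    refine ⟨![-t, 1], fun b => Q.coeff b, ?_⟩
    have h1 : pl (![-t, 1] : Fin (1 + 1) → K) = X - C t := by
      simp [pl, Fin.sum_univ_two]
      ring
    rw [h1, ← eq_pl Q, ← hQ]
    intro k hk
    exact coeff_eq_zero_of_natDegree_lt (by omega)

end K101.MulForms
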