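import Groth.Agent.Constr.K101.MulForms
import Groth.Agent.Cyc.K309.WidePb
import Groth.Agent.S3581

/-!
# Finite surjective morphisms `P^1 × P^n ⟶ P^{n+1}` and `(P^1)^n ⟶ P^n`
-/

set_option autoImplicit false

universe u

open CategoryTheory CategoryTheory.Limits AlgebraicGeometry

namespace K101.P1Pn

open Groth.Agent.VarietyB.ProjGlue Groth.Agent.VarietyB.ProjStd Groth.Agent.VarietyB.Segre
open K101.FormMap K101.ProdForm K101.ProdSurj K101.MulForms

/-- Over a ring. -/
theorem exists_ring (n : ℕ) (R : Type u) [CommRing R] :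
    ∃ φ : pullback (CohB1.ProjSpace.toSpec 1 R) (CohB1.ProjSpace.toSpec n R) ⟶
        CohB1.ProjSpace (n + 1) R,
      IsFinite φ ∧ Surjective φ ∧ φ ≫ CohB1.ProjSpace.toSpec (n + 1) R =
        pullback.fst (CohB1.ProjSpace.toSpec 1 R) (CohB1.ProjSpace.toSpec n R) ≫
          CohB1.ProjSpace.toSpec 1 R := by
  have i1 : IsProper (Groth.Agent.VarietyB.ProjStd.toSpec (Fin (1 + 1)) R) :=
    Groth.Agent.VarietyB.ProjSpaceProper.isProper_toSpec 1 R
  have i2 : IsProper (Groth.Agent.VarietyB.ProjStd.toSpec (Fin (n + 1)) R) :=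
    Groth.Agent.VarietyB.ProjSpaceProper.isProper_toSpec n R
  have i3 : IsProper (Groth.Agent.VarietyB.ProjStd.toSpec (Fin (n + 1 + 1)) R) :=
    Groth.Agent.VarietyB.ProjSpaceProper.isProper_toSpec (n + 1) R
  have H : IsPullback
      (pullback.fst (Groth.Agent.VarietyB.ProjStd.toSpec (Fin (1 + 1)) R)
        (Groth.Agent.VarietyB.ProjStd.toSpec (Fin (n + 1)) R))
      (pullback.snd (Groth.Agent.VarietyB.ProjStd.toSpec (Fin (1 + 1)) R)
        (Groth.Agent.VarietyB.ProjStd.toSpec (Fin (n + 1)) R))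
      (Groth.Agent.VarietyB.ProjStd.toSpec (Fin (1 + 1)) R)
      (Groth.Agent.VarietyB.ProjStd.toSpec (Fin (n + 1)) R) := IsPullback.of_hasPullback _ _
  have hcov := iSup_eq_top (pullback.fst (Groth.Agent.VarietyB.ProjStd.toSpec (Fin (1 + 1)) R)
        (Groth.Agent.VarietyB.ProjStd.toSpec (Fin (n + 1)) R))
      (pullback.snd (Groth.Agent.VarietyB.ProjStd.toSpec (Fin (1 + 1)) R)
        (Groth.Agent.VarietyB.ProjStd.toSpec (Fin (n + 1)) R))
      (pullback.fst (Groth.Agent.VarietyB.ProjStd.toSpec (Fin (1 + 1)) R)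
        (Groth.Agent.VarietyB.ProjStd.toSpec (Fin (n + 1)) R) ≫
          Groth.Agent.VarietyB.ProjStd.toSpec (Fin (1 + 1)) R) (cf n R)
      (fun K _ r x w i j hi hj => exists_ne_zero n r x w i j hi hj)
  have hclosed : IsClosedData (seg (pullback.fst (Groth.Agent.VarietyB.ProjStd.toSpec (Fin (1 + 1)) R)
        (Groth.Agent.VarietyB.ProjStd.toSpec (Fin (n + 1)) R))
      (pullback.snd (Groth.Agent.VarietyB.ProjStd.toSpec (Fin (1 + 1)) R)
        (Groth.Agent.VarietyB.ProjStd.toSpec (Fin (n + 1)) R)))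
      (pullback.fst (Groth.Agent.VarietyB.ProjStd.toSpec (Fin (1 + 1)) R)
        (Groth.Agent.VarietyB.ProjStd.toSpec (Fin (n + 1)) R) ≫
          Groth.Agent.VarietyB.ProjStd.toSpec (Fin (1 + 1)) R) :=
    isClosedData_std.segre H isClosedData_std
  refine ⟨formMap _ _ (cf n R) (cf_isHomogeneous n R) hcov,
    isFinite_formMap _ _ (cf n R) (cf_isHomogeneous n R) hcov hclosed one_pos, ⟨?_⟩,
    formMap_toSpec _ _ (cf n R) (cf_isHomogeneous n R) hcov⟩
  exact surjective_formMap H (cf n R) (cf_isHomogeneous n R) hcov one_pos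
    (fun K _ _ r v _ => exists_factor n r v)

/-- Over a scheme. -/
theorem exists_scheme (n : ℕ) (S : Scheme.{u}) :
    ∃ φ : pullback (CohB1.ProjSpaceOver.toBase 1 S) (CohB1.ProjSpaceOver.toBase n S) ⟶
        CohB1.ProjSpaceOver (n + 1) S,
      IsFinite φ ∧ Surjective φ ∧ φ ≫ CohB1.ProjSpaceOver.toBase (n + 1) S =
        pullback.fst (CohB1.ProjSpaceOver.toBase 1 S) (CohB1.ProjSpaceOver.toBase n S) ≫
          CohB1.ProjSpaceOver.toBase 1 S := by
  obtain ⟨ψ, hψ, hψs, hψ'⟩ := exists_ring n (ULift.{u} ℤ)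
  obtain ⟨h, H⟩ : ∃ h, IsPullback h (pullback.fst (CohB1.ProjSpaceOver.toBase 1 S)
      (CohB1.ProjSpaceOver.toBase n S) ≫ CohB1.ProjSpaceOver.toBase 1 S)
      (pullback.fst (CohB1.ProjSpace.toSpec 1 (ULift.{u} ℤ))
        (CohB1.ProjSpace.toSpec n (ULift.{u} ℤ)) ≫
        CohB1.ProjSpace.toSpec 1 (ULift.{u} ℤ)) (specULiftZIsTerminal.from S) :=
    ⟨_, Groth.Agent.VarietyB.Segre.isPullback_baseChange_prod
      (CohB1.ProjSpace.toSpec 1 (ULift.{u} ℤ))
    (CohB1.ProjSpace.toSpec n (ULift.{u} ℤ)) (specULiftZIsTerminal.from S)⟩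
  have H2 : IsPullback (pullback.fst (CohB1.ProjSpace.toSpec (n + 1) (ULift.{u} ℤ))
      (specULiftZIsTerminal.from S)) (CohB1.ProjSpaceOver.toBase (n + 1) S)
      (CohB1.ProjSpace.toSpec (n + 1) (ULift.{u} ℤ)) (specULiftZIsTerminal.from S) :=
    IsPullback.of_hasPullback (CohB1.ProjSpace.toSpec (n + 1) (ULift.{u} ℤ))
    (specULiftZIsTerminal.from S)
  rw [← hψ'] at H
  have hw : (h ≫ ψ) ≫ CohB1.ProjSpace.toSpec (n + 1) (ULift.{u} ℤ) =
    (pullback.fst (CohB1.ProjSpaceOver.toBase 1 S)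
      (CohB1.ProjSpaceOver.toBase n S) ≫ CohB1.ProjSpaceOver.toBase 1 S) ≫
        specULiftZIsTerminal.from S := by
    rw [Category.assoc]; exact H.w
  have H3 : IsPullback h (H2.lift _ _ hw) ψ
      (pullback.fst (CohB1.ProjSpace.toSpec (n + 1) (ULift.{u} ℤ))
      (specULiftZIsTerminal.from S)) := by
    refine IsPullback.of_bot ?_ ?_ H2
    · rw [H2.lift_snd]; exact H
    · exact (H2.lift_fst _ _ hw).symm
  exact ⟨H2.lift _ _ hw, MorphismProperty.of_isPullback H3 hψ,
    MorphismProperty.of_isPullback (P := @Surjective) H3 hψs, H2.lift_snd _ _ hw⟩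

theorem isIso_toBase_zero (S : Scheme.{u}) : IsIso (CohB1.ProjSpaceOver.toBase 0 S) := by
  have h := Groth.Agent.S3581.result (ULift.{u} ℤ)
  exact inferInstanceAs (IsIso (pullback.snd (CohB1.ProjSpace.toSpec 0 (ULift.{u} ℤ))
    (specULiftZIsTerminal.from S)))

/-- `(P^1_S)^n ⟶ P^n_S`. -/
theorem exists_widePullback (S : Scheme.{u}) (n : ℕ) :
    ∃ φ : widePullback S (fun _ : Fin n => CohB1.ProjSpaceOver 1 S)
        (fun _ => CohB1.ProjSpaceOver.toBase 1 S) ⟶ CohB1.ProjSpaceOver n S,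
      IsFinite φ ∧ Surjective φ ∧
        φ ≫ CohB1.ProjSpaceOver.toBase n S =
          WidePullback.base (fun _ => CohB1.ProjSpaceOver.toBase 1 S) := by
  induction n with
  | zero =>
    have h1 := isIso_toBase_zero S
    have h2 : IsIso (WidePullback.base (fun _ : Fin 0 => CohB1.ProjSpaceOver.toBase 1 S)) := by
      refine ⟨WidePullback.lift (𝟙 S) (fun i => i.elim0) (fun i => i.elim0), ?_, ?_⟩
      · apply WidePullback.hom_ext
        · intro j; exact j.elim0
        · rw [Category.assoc, WidePullback.lift_base, Category.comp_id, Category.id_comp]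
      · rw [WidePullback.lift_base]
    refine ⟨WidePullback.base (fun _ : Fin 0 => CohB1.ProjSpaceOver.toBase 1 S) ≫
      inv (CohB1.ProjSpaceOver.toBase 0 S), inferInstance, inferInstance, ?_⟩
    rw [Category.assoc, IsIso.inv_hom_id, Category.comp_id]
  | succ n ih =>
    obtain ⟨φ, hφ1, hφ2, hφ3⟩ := ih
    obtain ⟨ψ, hψ1, hψ2, hψ3⟩ := exists_scheme n S
    have H := K309.WidePb.isPullback_last (CohB1.ProjSpaceOver.toBase 1 S) n
    -- `(P^1)^{n+1} ⟶ P^1 ×_S P^n`
    let a : widePullback S (fun _ : Fin (n + 1) => CohB1.ProjSpaceOver 1 S)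
        (fun _ => CohB1.ProjSpaceOver.toBase 1 S) ⟶
        pullback (CohB1.ProjSpaceOver.toBase 1 S) (CohB1.ProjSpaceOver.toBase n S) :=
      pullback.lift (WidePullback.π _ (Fin.last n))
        (K309.WidePb.dropLast (CohB1.ProjSpaceOver.toBase 1 S) n ≫ φ)
        (by rw [Category.assoc, hφ3]; exact H.w.symm)
    have ha : IsPullback (K309.WidePb.dropLast (CohB1.ProjSpaceOver.toBase 1 S) n) a φ
        (pullback.snd (CohB1.ProjSpaceOver.toBase 1 S) (CohB1.ProjSpaceOver.toBase n S)) := by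
      have h1 : IsPullback (pullback.snd (CohB1.ProjSpaceOver.toBase 1 S)
          (CohB1.ProjSpaceOver.toBase n S)) (pullback.fst (CohB1.ProjSpaceOver.toBase 1 S)
          (CohB1.ProjSpaceOver.toBase n S)) (CohB1.ProjSpaceOver.toBase n S)
          (CohB1.ProjSpaceOver.toBase 1 S) := (IsPullback.of_hasPullback _ _).flip
      refine IsPullback.of_bot ?_ ?_ h1
      · rw [pullback.lift_fst, hφ3]
        exact H
      · exact (pullback.lift_snd _ _ _).symm
    have ha1 : IsFinite a := MorphismProperty.of_isPullback ha hφ1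
    have ha2 : Surjective a := MorphismProperty.of_isPullback (P := @Surjective) ha hφ2
    refine ⟨a ≫ ψ, inferInstance, inferInstance, ?_⟩
    rw [Category.assoc, hψ3, pullback.lift_fst_assoc, WidePullback.π_arrow]

end K101.P1Pn
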