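import Groth.Agent.Constr.K101.KPoint
import Mathlib.AlgebraicGeometry.ResidueField

/-!
# Morphisms from products of projective spaces given by forms in the Segre coordinates

Cover criterion (no common zeros) and surjectivity criterion, checked on field-valued points.
-/

set_option autoImplicit false

universe u

open AlgebraicGeometry CategoryTheory HomogeneousLocalization

namespace K101.ProdForm

open Groth.Agent.VarietyB.ProjHom Groth.Agent.VarietyB.ProjGlue Groth.Agent.VarietyB.ProjStd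
open Groth.Agent.VarietyB.Segre Groth.Agent.CycA.MovVec K101.FormMap K101.KPoint

attribute [local instance] MvPolynomial.gradedAlgebra

variable {I J L : Type} {R : Type u} [CommRing R]

theorem map_app_congr {W Z : Scheme.{u}} {f g : W ⟶ Z} (h : f = g) (D : Z.Opens) (s : Γ(Z, D))
    (V : W.Opens) (h1 : V ≤ f ⁻¹ᵁ D) (h2 : V ≤ g ⁻¹ᵁ D) :
    W.presheaf.map (homOfLE h1).op (f.app D s) = W.presheaf.map (homOfLE h2).op (g.app D s) := by
  subst h; rfl

section

variable {Z : Scheme.{u}} (π₁ : Z ⟶ Proj (MvPolynomial.homogeneousSubmodule I R))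
  (π₂ : Z ⟶ Proj (MvPolynomial.homogeneousSubmodule J R))

/-- The Segre coordinate data on a scheme with maps to two projective spaces. -/
noncomputable def seg : CoordData Z (I × J) :=
  prodData (pullbackData π₁ (stdData I R)) (pullbackData π₂ (stdData J R))

theorem seg_f (c k : I × J) : (seg π₁ π₂).f c k =
    Z.presheaf.map (homOfLE inf_le_left).op (π₁.app (Proj.basicOpen
      (MvPolynomial.homogeneousSubmodule I R) (MvPolynomial.X c.1)) (ratio I R c.1 k.1)) *
    Z.presheaf.map (homOfLE inf_le_right).op (π₂.app (Proj.basicOpen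
      (MvPolynomial.homogeneousSubmodule J R) (MvPolynomial.X c.2)) (ratio J R c.2 k.2)) := rfl

theorem seg_app_f {W : Scheme.{u}} (g : W ⟶ Z) {f₁ : W ⟶ Proj (MvPolynomial.homogeneousSubmodule I R)}
    {f₂ : W ⟶ Proj (MvPolynomial.homogeneousSubmodule J R)} (h₁ : g ≫ π₁ = f₁) (h₂ : g ≫ π₂ = f₂)
    (c k : I × J)
    (e₁ : g ⁻¹ᵁ (seg π₁ π₂).U c ≤ f₁ ⁻¹ᵁ Proj.basicOpen
      (MvPolynomial.homogeneousSubmodule I R) (MvPolynomial.X c.1))
    (e₂ : g ⁻¹ᵁ (seg π₁ π₂).U c ≤ f₂ ⁻¹ᵁ Proj.basicOpen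
      (MvPolynomial.homogeneousSubmodule J R) (MvPolynomial.X c.2)) :
    g.app ((seg π₁ π₂).U c) ((seg π₁ π₂).f c k) =
      W.presheaf.map (homOfLE e₁).op (f₁.app _ (ratio I R c.1 k.1)) *
      W.presheaf.map (homOfLE e₂).op (f₂.app _ (ratio J R c.2 k.2)) := by
  subst h₁ h₂
  refine (map_mul (g.app ((seg π₁ π₂).U c)).hom
    (Z.presheaf.map (homOfLE inf_le_left).op (π₁.app (Proj.basicOpen
      (MvPolynomial.homogeneousSubmodule I R) (MvPolynomial.X c.1)) (ratio I R c.1 k.1)))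
    (Z.presheaf.map (homOfLE inf_le_right).op (π₂.app (Proj.basicOpen
      (MvPolynomial.homogeneousSubmodule J R) (MvPolynomial.X c.2)) (ratio J R c.2 k.2)))).trans ?_
  refine congrArg₂ (· * ·) ?_ ?_
  · exact (map_app g inf_le_left (g.preimage_mono inf_le_left) _).symm
  · exact (map_app g inf_le_right (g.preimage_mono inf_le_right) _).symm

end

section Pt

variable {Z : Scheme.{u}} {π₁ : Z ⟶ Proj (MvPolynomial.homogeneousSubmodule I R)}
  {π₂ : Z ⟶ Proj (MvPolynomial.homogeneousSubmodule J R)}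
  (H : IsPullback π₁ π₂ (Groth.Agent.VarietyB.ProjStd.toSpec I R) (Groth.Agent.VarietyB.ProjStd.toSpec J R))
  {K : Type u} [Field K] (r : R →+* K)

theorem mem_basicOpen_seg_iff (x : I → K) (w : J → K) (c : I × J) (hx : x c.1 = 1) (hw : w c.2 = 1)
    (g : Spec (CommRingCat.of K) ⟶ Z) (h₁ : g ≫ π₁ = kpt r x c.1 hx) (h₂ : g ≫ π₂ = kpt r w c.2 hw)
    (z : Spec (CommRingCat.of K)) (a : MvPolynomial (I × J) R) :
    g z ∈ Z.basicOpen ((seg π₁ π₂).hom (π₁ ≫ Groth.Agent.VarietyB.ProjStd.toSpec I R) c a) ↔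
      MvPolynomial.eval₂Hom r (fun k => x k.1 * w k.2) a ≠ 0 := by
  set p := π₁ ≫ Groth.Agent.VarietyB.ProjStd.toSpec I R with hp
  have hU : g ⁻¹ᵁ (seg π₁ π₂).U c = ⊤ := by
    have e1 : (g ≫ π₁) ⁻¹ᵁ Proj.basicOpen (MvPolynomial.homogeneousSubmodule I R)
        (MvPolynomial.X c.1) = ⊤ := by rw [h₁, kpt_preimage]
    have e2 : (g ≫ π₂) ⁻¹ᵁ Proj.basicOpen (MvPolynomial.homogeneousSubmodule J R)
        (MvPolynomial.X c.2) = ⊤ := by rw [h₂, kpt_preimage]
    change (g ≫ π₁) ⁻¹ᵁ Proj.basicOpen (MvPolynomial.homogeneousSubmodule I R)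
        (MvPolynomial.X c.1) ⊓ (g ≫ π₂) ⁻¹ᵁ Proj.basicOpen (MvPolynomial.homogeneousSubmodule J R)
        (MvPolynomial.X c.2) = ⊤
    rw [e1, e2, top_inf_eq]
  have e₁ : g ⁻¹ᵁ (seg π₁ π₂).U c ≤ kpt r x c.1 hx ⁻¹ᵁ Proj.basicOpen
      (MvPolynomial.homogeneousSubmodule I R) (MvPolynomial.X c.1) := by
    rw [kpt_preimage]; exact le_top
  have e₂ : g ⁻¹ᵁ (seg π₁ π₂).U c ≤ kpt r w c.2 hw ⁻¹ᵁ Proj.basicOpen
      (MvPolynomial.homogeneousSubmodule J R) (MvPolynomial.X c.2) := by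
    rw [kpt_preimage]; exact le_top
  have hf : ∀ k, g.app ((seg π₁ π₂).U c) ((seg π₁ π₂).f c k) =
      (Spec (CommRingCat.of K)).presheaf.map (homOfLE le_top).op (cK K (x k.1 * w k.2)) := by
    intro k
    rw [seg_app_f π₁ π₂ g h₁ h₂ c k e₁ e₂, kpt_app_ratio, kpt_app_ratio, map_map_apply,
      map_map_apply, map_mul, map_mul]
  have hb : g ≫ p = Spec.map (CommRingCat.ofHom r) := by
    rw [hp, ← Category.assoc, h₁, kpt_toSpec]
  have key : g.app ((seg π₁ π₂).U c) ((seg π₁ π₂).hom p c a) =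
      (Spec (CommRingCat.of K)).presheaf.map
        (homOfLE (le_top : g ⁻¹ᵁ (seg π₁ π₂).U c ≤ ⊤)).op
        (cK K (MvPolynomial.eval₂Hom r (fun k => x k.1 * w k.2) a)) := by
    have h1 := congr($(hom_pullbackData g (seg π₁ π₂) p c) a)
    refine h1.symm.trans ?_
    rw [hb]
    have h2 : (pullbackData g (seg π₁ π₂)).hom (Spec.map (CommRingCat.ofHom r)) c =
      (((Spec (CommRingCat.of K)).presheaf.map
        (homOfLE (le_top : g ⁻¹ᵁ (seg π₁ π₂).U c ≤ ⊤)).op).hom.comp
        (cK K)).comp (MvPolynomial.eval₂Hom r (fun k => x k.1 * w k.2)) := by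
      apply MvPolynomial.ringHom_ext
      · intro t
        have h3 : (pullbackData g (seg π₁ π₂)).hom (Spec.map (CommRingCat.ofHom r)) c
            (MvPolynomial.C t) = CoordData.baseHom (Spec.map (CommRingCat.ofHom r))
              (g ⁻¹ᵁ (seg π₁ π₂).U c) t := by
          simp only [CoordData.hom, MvPolynomial.eval₂Hom_C]
          rfl
        refine h3.trans ?_
        rw [baseHom_specMap]
        change _ = ((Spec (CommRingCat.of K)).presheaf.map _).hom (cK K
          (MvPolynomial.eval₂Hom r (fun k : I × J => x k.1 * w k.2) (MvPolynomial.C t)))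
        rw [MvPolynomial.eval₂Hom_C]
        rfl
      · intro k
        have h3 := (pullbackData g (seg π₁ π₂)).hom_X (Spec.map (CommRingCat.ofHom r)) c k
        refine h3.trans ((hf k).trans ?_)
        change _ = ((Spec (CommRingCat.of K)).presheaf.map _).hom (cK K
          (MvPolynomial.eval₂Hom r (fun k : I × J => x k.1 * w k.2) (MvPolynomial.X k)))
        rw [MvPolynomial.eval₂Hom_X']
    exact congr($h2 a)
  have h4 : g z ∈ Z.basicOpen ((seg π₁ π₂).hom p c a) ↔
      z ∈ (Spec (CommRingCat.of K)).basicOpen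
        (g.app ((seg π₁ π₂).U c) ((seg π₁ π₂).hom p c a)) := by
    rw [← Scheme.preimage_basicOpen]; rfl
  rw [h4, key]
  exact mem_basicOpen_map_cK_iff _ z (by rw [hU]; trivial)

end Pt

end K101.ProdForm
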