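import Groth.Agent.Constr.K101.ProdForm

/-!
# Cover criterion and surjectivity criterion for morphisms `P^I × P^J ⟶ P^L` given by forms
-/

set_option autoImplicit false

universe u

open AlgebraicGeometry CategoryTheory HomogeneousLocalization

namespace K101.ProdSurj

open Groth.Agent.VarietyB.ProjHom Groth.Agent.VarietyB.ProjGlue Groth.Agent.VarietyB.ProjStd
open Groth.Agent.VarietyB.Segre Groth.Agent.CycA.MovVec K101.FormMap K101.KPoint K101.ProdForm

attribute [local instance] MvPolynomial.gradedAlgebra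

variable {I J L : Type} {R : Type u} [CommRing R]

theorem evaluation_map {X : Scheme.{u}} {U V : X.Opens} (hVU : V ≤ U) {x : X} (hx : x ∈ V)
    (s : Γ(X, U)) :
    X.evaluation V x hx (X.presheaf.map (homOfLE hVU).op s) = X.evaluation U x (hVU hx) s := by
  change (X.evaluation V x hx).hom ((X.presheaf.map (homOfLE hVU).op).hom s) = _
  rw [← CommRingCat.comp_apply]
  unfold Scheme.evaluation
  rw [TopCat.Presheaf.germ_res_assoc]

section Cover

variable {Z : Scheme.{u}} (π₁ : Z ⟶ Proj (MvPolynomial.homogeneousSubmodule I R))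
  (π₂ : Z ⟶ Proj (MvPolynomial.homogeneousSubmodule J R))

/-- The residue field values of the Segre coordinates. -/
theorem exists_values (z : Z) (c : I × J) (hz : z ∈ (seg π₁ π₂).U c)
    (p : Z ⟶ Spec (CommRingCat.of R)) :
    ∃ (K : Type u) (_ : Field K) (r : R →+* K) (x : I → K) (w : J → K), x c.1 = 1 ∧ w c.2 = 1 ∧
      ∀ a : MvPolynomial (I × J) R, z ∈ Z.basicOpen ((seg π₁ π₂).hom p c a) ↔
        MvPolynomial.eval₂Hom r (fun k => x k.1 * w k.2) a ≠ 0 := by
  have hz1 : z ∈ π₁ ⁻¹ᵁ Proj.basicOpen (MvPolynomial.homogeneousSubmodule I R)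
    (MvPolynomial.X c.1) := hz.1
  have hz2 : z ∈ π₂ ⁻¹ᵁ Proj.basicOpen (MvPolynomial.homogeneousSubmodule J R)
    (MvPolynomial.X c.2) := hz.2
  let ev := (Z.evaluation ((seg π₁ π₂).U c) z hz).hom
  refine ⟨Z.residueField z, inferInstance, ev.comp (CoordData.baseHom p _),
    fun k => (Z.evaluation _ z hz1).hom (π₁.app _ (ratio I R c.1 k)),
    fun k => (Z.evaluation _ z hz2).hom (π₂.app _ (ratio J R c.2 k)), ?_, ?_, ?_⟩
  · have h : ratio I R c.1 c.1 = 1 := (stdData I R).f_self c.1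
    change (Z.evaluation _ z hz1).hom ((π₁.app _).hom (ratio I R c.1 c.1)) = 1
    rw [h, map_one, map_one]
  · have h : ratio J R c.2 c.2 = 1 := (stdData J R).f_self c.2
    change (Z.evaluation _ z hz2).hom ((π₂.app _).hom (ratio J R c.2 c.2)) = 1
    rw [h, map_one, map_one]
  · intro a
    rw [← Scheme.evaluation_ne_zero_iff_mem_basicOpen Z z hz]
    have h1 : ev.comp ((seg π₁ π₂).hom p c) = MvPolynomial.eval₂Hom (ev.comp (CoordData.baseHom p _))
        (fun k : I × J => (Z.evaluation _ z hz1).hom (π₁.app _ (ratio I R c.1 k.1)) *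
          (Z.evaluation _ z hz2).hom (π₂.app _ (ratio J R c.2 k.2))) := by
      apply MvPolynomial.ringHom_ext
      · intro t
        rw [RingHom.comp_apply, MvPolynomial.eval₂Hom_C]
        simp only [CoordData.hom, MvPolynomial.eval₂Hom_C]
        rfl
      · intro k
        rw [RingHom.comp_apply, CoordData.hom_X, MvPolynomial.eval₂Hom_X']
        refine (map_mul ev
          (Z.presheaf.map (homOfLE inf_le_left).op (π₁.app (Proj.basicOpen
            (MvPolynomial.homogeneousSubmodule I R) (MvPolynomial.X c.1)) (ratio I R c.1 k.1)))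
          (Z.presheaf.map (homOfLE inf_le_right).op (π₂.app (Proj.basicOpen
            (MvPolynomial.homogeneousSubmodule J R) (MvPolynomial.X c.2))
              (ratio J R c.2 k.2)))).trans ?_
        exact congrArg₂ (· * ·) (evaluation_map inf_le_left hz _) (evaluation_map inf_le_right hz _)
    have h2 := congr($h1 a)
    rw [← h2]
    rfl

theorem iSup_eq_top (p : Z ⟶ Spec (CommRingCat.of R)) (l : L → MvPolynomial (I × J) R)
    (hnv : ∀ (K : Type u) [Field K] (r : R →+* K) (x : I → K) (w : J → K) (i : I) (j : J),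
      x i ≠ 0 → w j ≠ 0 → ∃ k, MvPolynomial.eval₂Hom r (fun c : I × J => x c.1 * w c.2) (l k) ≠ 0) :
    ⨆ α : L × (I × J), Z.basicOpen ((seg π₁ π₂).hom p α.2 (l α.1)) = ⊤ := by
  rw [eq_top_iff]
  intro z _
  have hz : z ∈ ⨆ c, (seg π₁ π₂).U c := by rw [(seg π₁ π₂).iSup_U]; trivial
  obtain ⟨c, hc⟩ := TopologicalSpace.Opens.mem_iSup.mp hz
  obtain ⟨K, _, r, x, w, hx, hw, H⟩ := exists_values π₁ π₂ z c hc p
  obtain ⟨k, hk⟩ := hnv K r x w c.1 c.2 (by rw [hx]; exact one_ne_zero)
    (by rw [hw]; exact one_ne_zero)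
  exact TopologicalSpace.Opens.mem_iSup.mpr ⟨(k, c), (H (l k)).mpr hk⟩

end Cover

section Points

/-- Homogeneous coordinates of a point of `P^J_R` in an algebraically closed field. -/
theorem exists_vec (y : Proj (MvPolynomial.homogeneousSubmodule J R)) :
    ∃ (K : Type u) (_ : Field K) (_ : IsAlgClosed K) (r : R →+* K) (v : J → K),
      (∃ j, v j ≠ 0) ∧ ∀ b : MvPolynomial J R,
        (y ∈ Proj.basicOpen (MvPolynomial.homogeneousSubmodule J R) b ↔
          MvPolynomial.eval₂Hom r v b ≠ 0) := by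
  let P : Ideal (MvPolynomial J R) := (show ProjectiveSpectrum
    (MvPolynomial.homogeneousSubmodule J R) from y).asHomogeneousIdeal.toIdeal
  have hP : P.IsPrime := (show ProjectiveSpectrum
    (MvPolynomial.homogeneousSubmodule J R) from y).isPrime
  let K := AlgebraicClosure (FractionRing (MvPolynomial J R ⧸ P))
  let φ : MvPolynomial J R →+* K := (algebraMap (FractionRing (MvPolynomial J R ⧸ P)) K).comp
    ((algebraMap (MvPolynomial J R ⧸ P) (FractionRing (MvPolynomial J R ⧸ P))).comp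
      (Ideal.Quotient.mk P))
  have hφ : ∀ b, φ b ≠ 0 ↔ b ∉ P := by
    intro b
    have h1 : φ b = 0 ↔ b ∈ P := by
      change algebraMap (FractionRing (MvPolynomial J R ⧸ P)) K
        (algebraMap (MvPolynomial J R ⧸ P) (FractionRing (MvPolynomial J R ⧸ P))
          (Ideal.Quotient.mk P b)) = 0 ↔ _
      rw [map_eq_zero, map_eq_zero_iff _ (IsFractionRing.injective _ _),
        Ideal.Quotient.eq_zero_iff_mem]
    exact not_congr h1
  have hφ2 : MvPolynomial.eval₂Hom (φ.comp MvPolynomial.C) (fun j => φ (MvPolynomial.X j)) = φ := by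
    apply MvPolynomial.ringHom_ext
    · intro t; rw [MvPolynomial.eval₂Hom_C]; rfl
    · intro k; rw [MvPolynomial.eval₂Hom_X']
  refine ⟨K, inferInstance, inferInstance, φ.comp MvPolynomial.C, fun j => φ (MvPolynomial.X j),
    ?_, fun b => ?_⟩
  · have hy : y ∈ (⨆ i : J, Proj.basicOpen (MvPolynomial.homogeneousSubmodule J R)
        (MvPolynomial.X i) : (Proj (MvPolynomial.homogeneousSubmodule J R)).Opens) := by
      rw [CoordData.iSup_basicOpen_X J R]; trivial
    obtain ⟨i, hi⟩ := TopologicalSpace.Opens.mem_iSup.mp hy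
    exact ⟨i, (hφ _).mpr hi⟩
  · rw [hφ2, hφ]
    exact Iff.rfl

/-- Points of `P^J_R` are separated by the basic opens of forms of positive degree. -/
theorem ext_point {y y' : Proj (MvPolynomial.homogeneousSubmodule J R)}
    (h : ∀ m, 0 < m → ∀ b : MvPolynomial J R, b.IsHomogeneous m →
      (y ∈ Proj.basicOpen (MvPolynomial.homogeneousSubmodule J R) b ↔
        y' ∈ Proj.basicOpen (MvPolynomial.homogeneousSubmodule J R) b)) : y = y' := by
  have hy : y ∈ (⨆ i : J, Proj.basicOpen (MvPolynomial.homogeneousSubmodule J R)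
      (MvPolynomial.X i) : (Proj (MvPolynomial.homogeneousSubmodule J R)).Opens) := by
    rw [CoordData.iSup_basicOpen_X J R]; trivial
  obtain ⟨i, hi⟩ := TopologicalSpace.Opens.mem_iSup.mp hy
  have hi' := (h 1 one_pos _ (MvPolynomial.isHomogeneous_X R i)).mp hi
  have key : ∀ n, ∀ b ∈ MvPolynomial.homogeneousSubmodule J R n,
      (y ∈ Proj.basicOpen (MvPolynomial.homogeneousSubmodule J R) b ↔
        y' ∈ Proj.basicOpen (MvPolynomial.homogeneousSubmodule J R) b) := by
    intro n b hb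
    have h1 := h (n + 1) (Nat.succ_pos n) (b * MvPolynomial.X i)
      (((MvPolynomial.mem_homogeneousSubmodule _ _).mp hb).mul (MvPolynomial.isHomogeneous_X R i))
    rw [Proj.basicOpen_mul] at h1
    exact ⟨fun h2 => (h1.mp ⟨h2, hi⟩).1, fun h2 => (h1.mpr ⟨h2, hi'⟩).1⟩
  have h2 : (show ProjectiveSpectrum (MvPolynomial.homogeneousSubmodule J R) from y) = y' := by
    apply ProjectiveSpectrum.ext
    apply HomogeneousIdeal.ext'
    intro n b hb
    exact not_iff_not.mp (key n b hb)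
  exact h2

end Points

section Surj

variable {Z : Scheme.{u}} {π₁ : Z ⟶ Proj (MvPolynomial.homogeneousSubmodule I R)}
  {π₂ : Z ⟶ Proj (MvPolynomial.homogeneousSubmodule J R)}
  (H : IsPullback π₁ π₂ (Groth.Agent.VarietyB.ProjStd.toSpec I R)
    (Groth.Agent.VarietyB.ProjStd.toSpec J R))
  (l : L → MvPolynomial (I × J) R) {e : ℕ} (hl : ∀ j, (l j).IsHomogeneous e)
  (h : ⨆ α : L × (I × J), Z.basicOpen ((seg π₁ π₂).hom
    (π₁ ≫ Groth.Agent.VarietyB.ProjStd.toSpec I R) α.2 (l α.1)) = ⊤)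

include H in
/-- Surjectivity criterion. -/
theorem surjective_formMap (he : 0 < e)
    (hfac : ∀ (K : Type u) [Field K] [IsAlgClosed K] (r : R →+* K) (v : L → K), (∃ j, v j ≠ 0) →
      ∃ (x : I → K) (w : J → K), ∀ k,
        v k = MvPolynomial.eval₂Hom r (fun c : I × J => x c.1 * w c.2) (l k)) :
    Function.Surjective
      (formMap (seg π₁ π₂) (π₁ ≫ Groth.Agent.VarietyB.ProjStd.toSpec I R) l hl h) := by
  intro y
  obtain ⟨K, _, _, r, v, ⟨j₀, hv⟩, hy⟩ := exists_vec y
  obtain ⟨x, w, hxw⟩ := hfac K r v ⟨j₀, hv⟩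
  have hne : ∃ i j, x i ≠ 0 ∧ w j ≠ 0 := by
    by_contra hcon
    push Not at hcon
    have h0 : (fun c : I × J => x c.1 * w c.2) = fun c : I × J => 0 * (0 : K) := by
      funext c
      by_cases hx : x c.1 = 0
      · rw [hx, zero_mul, zero_mul]
      · rw [hcon _ c.2 hx, mul_zero, mul_zero]
    apply hv
    rw [hxw, h0, eval₂Hom_smul_of_isHomogeneous _ _ _ (hl j₀), zero_pow he.ne', zero_mul]
  obtain ⟨i, j, hi, hj⟩ := hne
  let x' : I → K := fun k => (x i)⁻¹ * x k
  let w' : J → K := fun k => (w j)⁻¹ * w k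
  have hx' : x' i = 1 := inv_mul_cancel₀ hi
  have hw' : w' j = 1 := inv_mul_cancel₀ hj
  obtain ⟨g, h₁, h₂⟩ : ∃ g : Spec (CommRingCat.of K) ⟶ Z, g ≫ π₁ = kpt r x' i hx' ∧
      g ≫ π₂ = kpt r w' j hw' :=
    ⟨H.lift (kpt r x' i hx') (kpt r w' j hw') (by rw [kpt_toSpec, kpt_toSpec]),
      H.lift_fst _ _ _, H.lift_snd _ _ _⟩
  obtain ⟨z⟩ : Nonempty (Spec (CommRingCat.of K)) := inferInstance
  refine ⟨g z, ?_⟩
  apply ext_point
  intro m hm b hb
  have hU : g z ∈ (seg π₁ π₂).U (i, j) := by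
    have h0 := (mem_basicOpen_seg_iff r x' w' (i, j) hx' hw' g h₁ h₂ z 1).mpr
      (by rw [map_one]; exact one_ne_zero)
    exact Z.basicOpen_le _ h0
  rw [formMap_mem_iff _ _ l hl h hU hm hb, hy,
    mem_basicOpen_seg_iff r x' w' (i, j) hx' hw' g h₁ h₂ z]
  have e1 : (fun c : I × J => x' c.1 * w' c.2) =
      fun c : I × J => ((x i)⁻¹ * (w j)⁻¹) * (x c.1 * w c.2) := by
    funext c
    simp only [x', w']
    ring
  have e2 : MvPolynomial.eval₂Hom r (fun c : I × J => x' c.1 * w' c.2) (MvPolynomial.bind₁ l b) =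
      (((x i)⁻¹ * (w j)⁻¹) ^ e) ^ m * MvPolynomial.eval₂Hom r v b := by
    rw [← eval₂Hom_smul_of_isHomogeneous _ _ _ hb]
    rw [MvPolynomial.eval₂Hom_bind₁]
    congr 2
    funext k
    rw [e1, eval₂Hom_smul_of_isHomogeneous _ _ _ (hl k), hxw k]
  rw [e2]
  have hu : (((x i)⁻¹ * (w j)⁻¹) ^ e) ^ m ≠ 0 :=
    pow_ne_zero _ (pow_ne_zero _ (mul_ne_zero (inv_ne_zero hi) (inv_ne_zero hj)))
  rw [mul_ne_zero_iff]
  exact ⟨fun h => h.2, fun h => ⟨hu, h⟩⟩

end Surj

end K101.ProdSurj
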